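import Cfsg.Agent.H780.D4.Stmts

/-!
# S5261, (L1A): the action of `Aut_F(Q₁)` on `V₁ = Q₁/Z₁` (helper932)

`toV : MulAut (Q1 φ) →* Equiv.Perm (V1 F K)` and `stL1a : StGrpD → StLin1 → StL1a`.
-/

set_option autoImplicit false
set_option linter.unusedSectionVars false

namespace Cfsg.Agent.H932.D4

open Cfsg Cfsg.FusionSystem Cfsg.Agent.H765.D3 Cfsg.Agent.H780.D4
open Cfsg.Agent.H765.D3.Sy (Q1 Q2 Z1 Z2 Z3 Z4 u1 u2 u3 u4 u5 u6 form)
open Cfsg.Agent.Hex.Defs (sh cr nm tr)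
open Cfsg.Agent.H756.PU (Inv Ess NormAut TIAut AF)
open scoped commutatorElement

universe u

variable {F K : Type u} [Field F] [Field K] [Algebra F K] {φ : K ≃ₐ[F] K} [Cub φ]

/-- the coordinates on `V₁` -/
def pr (e : Sy φ) : V1 F K := (e.x6, e.x5, e.x3, e.x2)

theorem pr_mul {x : Sy φ} (hx : x ∈ Q1 φ) (y : Sy φ) : pr (x * y) = pr x + pr y := by
  have hx' : x.x1 = 0 := hx
  refine Prod.ext ?_ (Prod.ext ?_ (Prod.ext ?_ ?_))
  · rfl
  · show (x * y).x5 = x.x5 + y.x5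
    rw [Sy.mul_x5, hx', smul_zero, add_zero]
  · show (x * y).x3 = x.x3 + y.x3
    rw [Sy.mul_x3, hx', cr_zero_left, sh_zero, smul_zero, add_zero, add_zero]
  · show (x * y).x2 = x.x2 + y.x2
    rw [Sy.mul_x2, hx', sh_zero, nm_zero, zero_mul, zero_mul, mul_zero, tr_zero, add_zero, add_zero, add_zero]

theorem pr_one : pr (1 : Sy φ) = 0 := rfl

theorem pr_Z1 {z : Sy φ} (hz : z ∈ Z1 φ) : pr z = 0 := by
  obtain ⟨h1, h2, h3, h4, h5⟩ := hz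
  exact Prod.ext h2 (Prod.ext h3 (Prod.ext h4 h5))

theorem mem_Z1_of_pr {z : Sy φ} (h1 : z ∈ Q1 φ) (hz : pr z = 0) : z ∈ Z1 φ :=
  ⟨h1, congrArg Prod.fst hz, congrArg (fun v => v.2.1) hz, congrArg (fun v => v.2.2.1) hz,
    congrArg (fun v => v.2.2.2) hz⟩

theorem Z1_le_Q1 : Z1 φ ≤ Q1 φ := fun _ h => h.1

/-- the central element -/
def c4 (φ : K ≃ₐ[F] K) [Cub φ] (w : F) : Q1 φ := ⟨u4 φ w, rfl⟩

theorem mul_c4 (e : Q1 φ) (w : F) : ((e * c4 φ w : Q1 φ) : Sy φ) =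
    ⟨(e : Sy φ).x1, (e : Sy φ).x6, (e : Sy φ).x5, (e : Sy φ).x3, (e : Sy φ).x2, (e : Sy φ).x4 + w⟩ := by
  obtain ⟨e, he⟩ := e
  have he' : e.x1 = 0 := he
  show e * u4 φ w = _
  ext
  · simp [Sy.mul_def, u4]
  · simp [Sy.mul_def, u4]
  · simp only [Sy.mul_def, u4, he']; cub
  · simp only [Sy.mul_def, u4, he']; cub
  · simp only [Sy.mul_def, u4, he']; apply (algebraMap F K).injective; cub
  · simp only [Sy.mul_def, u4, he']; apply (algebraMap F K).injective; cub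

theorem eq_mul_c4 {e e' : Q1 φ} (h : pr (e : Sy φ) = pr (e' : Sy φ)) :
    e' = e * c4 φ ((e' : Sy φ).x4 - (e : Sy φ).x4) := by
  apply Subtype.ext
  rw [mul_c4]
  have h1 : (e : Sy φ).x1 = 0 := e.2
  have h1' : (e' : Sy φ).x1 = 0 := e'.2
  ext
  · rw [h1, h1']
  · exact (congrArg Prod.fst h).symm
  · exact (congrArg (fun v : V1 F K => v.2.1) h).symm
  · exact (congrArg (fun v : V1 F K => v.2.2.1) h).symm
  · exact (congrArg (fun v : V1 F K => v.2.2.2) h).symm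
  · ring

theorem mem_Z1_iff {z : Sy φ} (hz : z ∈ Q1 φ) : z ∈ Z1 φ ↔ ∀ y : Q1 φ, y * ⟨z, hz⟩ = ⟨z, hz⟩ * y := by
  rw [← Sy.centralizer_Q1, Subgroup.mem_centralizer_iff]
  constructor
  · intro h y
    exact Subtype.ext (h y y.2)
  · intro h y hy
    exact congrArg Subtype.val (h ⟨y, hy⟩)

/-- automorphisms of `Q₁` preserve `Z₁` -/
theorem map_Z1' (γ : MulAut (Q1 φ)) {z : Q1 φ} (hz : (z : Sy φ) ∈ Z1 φ) : ((γ z : Q1 φ) : Sy φ) ∈ Z1 φ := by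
  rw [mem_Z1_iff (γ z).2]
  rw [mem_Z1_iff z.2] at hz
  intro y
  obtain ⟨x, rfl⟩ := γ.surjective y
  exact (map_mul γ x z).symm.trans ((congrArg γ (hz x)).trans (map_mul γ z x))

theorem pr_congr (γ : MulAut (Q1 φ)) {e e' : Q1 φ} (h : pr (e : Sy φ) = pr (e' : Sy φ)) :
    pr ((γ e : Q1 φ) : Sy φ) = pr ((γ e' : Q1 φ) : Sy φ) := by
  rw [eq_mul_c4 h, map_mul, Subgroup.coe_mul, pr_mul (γ e).2, pr_Z1 (map_Z1' γ (z := c4 φ _) (Sy.u4_mem _)), add_zero]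

/-- the section -/
def sec (φ : K ≃ₐ[F] K) [Cub φ] (v : V1 F K) : Q1 φ := ⟨⟨0, v.1, v.2.1, v.2.2.1, v.2.2.2, 0⟩, rfl⟩

theorem pr_sec (v : V1 F K) : pr (sec φ v : Sy φ) = v := rfl

variable (φ) in
/-- the action on `V₁` -/
noncomputable def toV : MulAut (Q1 φ) →* Equiv.Perm (V1 F K) :=
  MonoidHom.toHomPerm
    { toFun := fun γ => (fun v => pr ((γ (sec φ v) : Q1 φ) : Sy φ) : Function.End (V1 F K))
      map_one' := rfl
      map_mul' := fun γ δ => by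
        funext v
        show pr ((γ (δ (sec φ v)) : Q1 φ) : Sy φ) = pr ((γ (sec φ (pr ((δ (sec φ v) : Q1 φ) : Sy φ))) : Q1 φ) : Sy φ)
        exact pr_congr γ rfl }

theorem toV_apply (γ : MulAut (Q1 φ)) (v : V1 F K) : toV φ γ v = pr ((γ (sec φ v) : Q1 φ) : Sy φ) := rfl

theorem toV_pr (γ : MulAut (Q1 φ)) (e : Q1 φ) : toV φ γ (pr (e : Sy φ)) = pr ((γ e : Q1 φ) : Sy φ) :=
  pr_congr γ rfl

theorem toV_eq_iff (γ δ : MulAut (Q1 φ)) : toV φ γ = toV φ δ ↔ Same1 γ δ := by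
  constructor
  · intro h e
    have h1 := congrArg (fun g : Equiv.Perm (V1 F K) => g (pr (e : Sy φ))) h
    simp only [toV_pr] at h1
    exact ⟨congrArg Prod.fst h1, congrArg (fun v : V1 F K => v.2.1) h1, congrArg (fun v : V1 F K => v.2.2.1) h1,
      congrArg (fun v : V1 F K => v.2.2.2) h1⟩
  · intro h
    ext1 v
    obtain ⟨h1, h2, h3, h4⟩ := h (sec φ v)
    exact Prod.ext h1 (Prod.ext h2 (Prod.ext h3 h4))

theorem toV_add (γ : MulAut (Q1 φ)) (v w : V1 F K) : toV φ γ (v + w) = toV φ γ v + toV φ γ w := by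
  have h1 : pr ((sec φ v * sec φ w : Q1 φ) : Sy φ) = v + w := by
    rw [Subgroup.coe_mul, pr_mul (sec φ v).2, pr_sec, pr_sec]
  rw [← h1, toV_pr, map_mul, Subgroup.coe_mul, pr_mul (γ _).2, toV_apply, toV_apply]

/-! ### Conjugations -/

/-- `Aut_S(Q₁)` -/
theorem aut_eq : autInducedBy ⊤ (Q1 φ) = (MulAut.conjNormal : Sy φ →* MulAut (Q1 φ)).range := by
  apply le_antisymm
  · rw [autInducedBy, Subgroup.closure_le]
    rintro α ⟨g, -, hg⟩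
    refine ⟨g, ?_⟩
    refine MulEquiv.ext fun e => Subtype.ext ?_
    rw [MulAut.conjNormal_apply, hg]
  · rintro _ ⟨g, rfl⟩
    exact Subgroup.subset_closure ⟨g, trivial, fun e => MulAut.conjNormal_apply g e⟩

theorem conj_mem (x : Sy φ) : MulAut.conjNormal x ∈ autInducedBy ⊤ (Q1 φ) := by
  rw [aut_eq]
  exact ⟨x, rfl⟩

theorem isActV_conj (x : Sy φ) : IsActV φ (toV φ (MulAut.conjNormal x)) x.x1 := by
  intro v
  rw [toV_apply, MulAut.conjNormal_apply]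
  set s : Sy φ := (sec φ v : Sy φ) with hs
  have e : x * s = (x * s * x⁻¹) * x := by group
  set c : Sy φ := x * s * x⁻¹ with hc
  have c1 : c.x1 = 0 := by
    have := congrArg Sy.x1 e
    rw [Sy.mul_x1, Sy.mul_x1] at this
    have s1 : s.x1 = 0 := rfl
    rw [s1] at this
    linear_combination -this
  have h6 := congrArg Sy.x6 e
  have h5 := congrArg Sy.x5 e
  have h3 := congrArg Sy.x3 e
  have h2 := congrArg Sy.x2 e
  rw [Sy.mul_x6, Sy.mul_x6] at h6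
  rw [Sy.mul_x5, Sy.mul_x5, c1, smul_zero] at h5
  rw [Sy.mul_x3, Sy.mul_x3, c1, cr_zero_left, sh_zero, smul_zero] at h3
  rw [Sy.mul_x2, Sy.mul_x2, c1, sh_zero, nm_zero, zero_mul, zero_mul, mul_zero, tr_zero] at h2
  refine Prod.ext ?_ (Prod.ext ?_ (Prod.ext ?_ ?_))
  · show c.x6 = s.x6
    linear_combination -h6
  · show c.x5 = s.x5 + s.x6 • x.x1
    linear_combination -h5
  · show c.x3 = s.x3 + cr φ x.x1 s.x5 + s.x6 • sh φ x.x1
    linear_combination -h3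
  · show c.x2 = s.x2 + tr φ (x.x1 * s.x3) + tr φ (sh φ x.x1 * s.x5) + s.x6 * nm φ x.x1
    linear_combination -h2

theorem act_unique {g g' : Equiv.Perm (V1 F K)} {a : K} (h : IsActV φ g a) (h' : IsActV φ g' a) : g = g' := by
  ext1 v
  rw [h v, h' v]

theorem tor_unique {g g' : Equiv.Perm (V1 F K)} {s : K} {t : F} {τ : K ≃+* K} {ρ : F ≃+* F}
    (h : IsTorV φ g s t τ ρ) (h' : IsTorV φ g' s t τ ρ) : g = g' := by
  ext1 v
  rw [h.app v, h'.app v]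

theorem act_one {a : K} (h : IsActV φ 1 a) : a = 0 := by
  have h1 := congrArg (fun v : V1 F K => v.2.1) (h (1, 0, 0, 0))
  simpa using h1.symm

theorem act_zero {g : Equiv.Perm (V1 F K)} (h : IsActV φ g 0) : g = 1 := by
  refine act_unique h ?_
  have := isActV_conj (φ := φ) 1
  rwa [map_one, map_one] at this

/-- inner automorphisms of `Q₁` act trivially on `V₁` -/
theorem toV_inn {γ : MulAut (Q1 φ)} (h : γ ∈ Inn (Q1 φ)) : toV φ γ = 1 := by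
  obtain ⟨x, rfl⟩ := h
  have h1 : MulAut.conj x = MulAut.conjNormal (x : Sy φ) := by
    refine MulEquiv.ext fun e => Subtype.ext ?_
    rw [MulAut.conjNormal_apply]
    rfl
  rw [h1]
  apply act_zero (φ := φ)
  have := isActV_conj (x : Sy φ)
  have hx : (x : Sy φ).x1 = 0 := x.2
  rwa [hx] at this

/-! ### The kernel -/

theorem form_pr (x y : Sy φ) : formV φ (pr x) (pr y) = form x y := rfl

/-- `γ` on `Z₁` -/
theorem c4_comm (w : F) : c4 φ w = ⁅(⟨u6 φ w, rfl⟩ : Q1 φ), (⟨u2 φ 1, rfl⟩ : Q1 φ)⁆ := by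
  apply Subtype.ext
  show u4 φ w = ⁅u6 φ w, u2 φ 1⁆
  rw [Sy.comm_Z2 (Sy.u2_mem 1)]
  simp [u6, u2]

theorem coe_comm (x y : Q1 φ) : ⁅x, y⁆ = c4 φ (form (x : Sy φ) (y : Sy φ)) :=
  Subtype.ext (Sy.comm_Q1 x.2 y.2)

theorem c4_add (a b : F) : c4 φ (a + b) = c4 φ a * c4 φ b := Subtype.ext (Sy.u4_add a b)

theorem c4_zero : c4 φ 0 = 1 := rfl

theorem ker_c4 {γ : MulAut (Q1 φ)} (h : toV φ γ = 1) (w : F) : γ (c4 φ w) = c4 φ w := by
  have h1 : ∀ e : Q1 φ, pr ((γ e : Q1 φ) : Sy φ) = pr (e : Sy φ) := fun e => by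
    rw [← toV_pr, h]; rfl
  rw [c4_comm, map_commutatorElement, coe_comm, coe_comm, ← form_pr, ← form_pr, h1, h1]

theorem ker_apply {γ : MulAut (Q1 φ)} (h : toV φ γ = 1) (e : Q1 φ) :
    γ e = e * c4 φ (((γ e : Q1 φ) : Sy φ).x4 - (e : Sy φ).x4) := by
  apply eq_mul_c4
  rw [← toV_pr, h]; rfl

theorem ker_pow {γ : MulAut (Q1 φ)} (h : toV φ γ = 1) (e : Q1 φ) (k : ℕ) :
    (γ ^ k) e = e * c4 φ (k * (((γ e : Q1 φ) : Sy φ).x4 - (e : Sy φ).x4)) := by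
  obtain ⟨z, hz⟩ : ∃ z, z = ((γ e : Q1 φ) : Sy φ).x4 - (e : Sy φ).x4 := ⟨_, rfl⟩
  have he : γ e = e * c4 φ z := by rw [hz]; exact ker_apply h e
  rw [← hz]
  induction k with
  | zero => rw [Nat.cast_zero, zero_mul, c4_zero, mul_one]; rfl
  | succ k ih =>
    rw [pow_succ', MulAut.mul_apply, ih, map_mul, ker_c4 h, he, mul_assoc, ← c4_add, Nat.cast_succ, add_mul, one_mul,
      add_comm]

theorem ker_pGroup {p : ℕ} [CharP F p] : IsPGroup p (toV φ).ker := by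
  rintro ⟨γ, hγ⟩
  refine ⟨1, Subtype.ext ?_⟩
  show γ ^ p ^ 1 = 1
  rw [pow_one]
  ext1 e
  rw [ker_pow hγ, CharP.cast_eq_zero, zero_mul, c4_zero, mul_one]
  rfl

/-! ### The form -/

/-- the action on `Z₁` -/
noncomputable def zet (γ : MulAut (Q1 φ)) : F ≃+ F where
  toFun w := ((γ (c4 φ w) : Q1 φ) : Sy φ).x4
  invFun w := ((γ⁻¹ (c4 φ w) : Q1 φ) : Sy φ).x4
  left_inv w := by
    have h1 : γ (c4 φ w) = c4 φ (((γ (c4 φ w) : Q1 φ) : Sy φ).x4) :=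
      Subtype.ext (Sy.eq_u4 (map_Z1' γ (Sy.u4_mem w)))
    show ((γ⁻¹ (c4 φ (((γ (c4 φ w) : Q1 φ) : Sy φ).x4)) : Q1 φ) : Sy φ).x4 = w
    rw [← h1, MulAut.inv_apply_self]
    rfl
  right_inv w := by
    have h1 : γ⁻¹ (c4 φ w) = c4 φ (((γ⁻¹ (c4 φ w) : Q1 φ) : Sy φ).x4) :=
      Subtype.ext (Sy.eq_u4 (map_Z1' γ⁻¹ (Sy.u4_mem w)))
    show ((γ (c4 φ (((γ⁻¹ (c4 φ w) : Q1 φ) : Sy φ).x4)) : Q1 φ) : Sy φ).x4 = w
    rw [← h1, MulAut.apply_inv_self]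
    rfl
  map_add' a b := by
    have h1 : ∀ w, γ (c4 φ w) = c4 φ (((γ (c4 φ w) : Q1 φ) : Sy φ).x4) := fun w =>
      Subtype.ext (Sy.eq_u4 (map_Z1' γ (Sy.u4_mem w)))
    rw [c4_add, map_mul]
    conv_lhs => rw [h1 a, h1 b, ← c4_add]
    rfl

theorem zet_c4 (γ : MulAut (Q1 φ)) (w : F) : γ (c4 φ w) = c4 φ (zet γ w) :=
  Subtype.ext (Sy.eq_u4 (map_Z1' γ (Sy.u4_mem w)))

theorem c4_inj {a b : F} (h : c4 φ a = c4 φ b) : a = b :=
  congrArg (fun e : Q1 φ => (e : Sy φ).x4) h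

theorem toV_form (γ : MulAut (Q1 φ)) (v w : V1 F K) :
    formV φ (toV φ γ v) (toV φ γ w) = zet γ (formV φ v w) := by
  apply c4_inj (φ := φ)
  rw [← zet_c4, toV_apply, toV_apply, form_pr, ← coe_comm, ← map_commutatorElement, coe_comm, ← form_pr, pr_sec, pr_sec]

theorem sq_eq (h2 : (2 : F) = 0) (e : Q1 φ) : e * e = c4 φ (quadV φ (pr (e : Sy φ))) := by
  obtain ⟨e, he⟩ := e
  have he' : e.x1 = 0 := he
  have h2K : (2 : K) = 0 := by
    have := congrArg (algebraMap F K) h2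
    rwa [map_zero, map_ofNat] at this
  apply Subtype.ext
  show e * e = u4 φ (quadV φ (pr e))
  ext
  · show e.x1 + e.x1 = 0
    rw [he', add_zero]
  · show e.x6 + e.x6 = 0
    linear_combination e.x6 * h2
  · rw [Sy.mul_x5, he', smul_zero, add_zero]
    show e.x5 + e.x5 = 0
    linear_combination e.x5 * h2K
  · rw [Sy.mul_x3, he', cr_zero_left, sh_zero, smul_zero, add_zero, add_zero]
    show e.x3 + e.x3 = 0
    linear_combination e.x3 * h2K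
  · rw [Sy.mul_x2, he', sh_zero, nm_zero, zero_mul, zero_mul, mul_zero, tr_zero, add_zero, add_zero, add_zero]
    show e.x2 + e.x2 = 0
    linear_combination e.x2 * h2
  · rw [Sy.mul_x4, he', sh_zero, nm_zero, zero_mul, zero_mul, mul_zero, tr_zero, mul_zero, smul_zero, add_zero, add_zero,
      add_zero, add_zero]
    show e.x4 + e.x4 - e.x2 * e.x6 + tr φ (e.x3 * e.x5) = e.x2 * e.x6 + tr φ (e.x3 * e.x5)
    linear_combination (e.x4 - e.x2 * e.x6) * h2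

theorem toV_quad (h2 : (2 : F) = 0) (γ : MulAut (Q1 φ)) (v : V1 F K) :
    quadV φ (toV φ γ v) = zet γ (quadV φ v) := by
  apply c4_inj (φ := φ)
  rw [← zet_c4, toV_apply, ← sq_eq h2, ← map_mul, sq_eq h2, pr_sec]

/-! ### Restriction -/

variable (φ) in
/-- restriction to `Q₁` -/
noncomputable def res : MulAut (Sy φ) →* MulAut (Q1 φ) where
  toFun α :=
    { toFun := fun e => ⟨α e, Sy.map_Q1 α e.2⟩
      invFun := fun e => ⟨α.symm e, Sy.map_Q1 α.symm e.2⟩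
      left_inv := fun e => Subtype.ext (α.symm_apply_apply _)
      right_inv := fun e => Subtype.ext (α.apply_symm_apply _)
      map_mul' := fun e e' => Subtype.ext (map_mul α _ _) }
  map_one' := rfl
  map_mul' _ _ := rfl

theorem isR_res (α : MulAut (Sy φ)) : IsR α (res φ α) := fun _ => rfl

theorem isTorV_res {α : MulAut (Sy φ)} {s : K} {t : F} {τ : K ≃+* K} {ρ : F ≃+* F} (h : IsTor α s t τ ρ) :
    IsTorV φ (toV φ (res φ α)) s t τ ρ where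
  nes := h.nes
  net := h.net
  res := h.res
  app v := by
    rw [toV_apply]
    exact Prod.ext (h.x6 _) (Prod.ext (h.x5 _) (Prod.ext (h.x3 _) (h.x2 _)))

theorem isTor_unique {α β : MulAut (Sy φ)} {s : K} {t : F} {τ : K ≃+* K} {ρ : F ≃+* F} (h : IsTor α s t τ ρ)
    (h' : IsTor β s t τ ρ) : α = β := by
  ext1 g
  ext
  · rw [h.x1, h'.x1]
  · rw [h.x6, h'.x6]
  · rw [h.x5, h'.x5]
  · rw [h.x3, h'.x3]
  · rw [h.x2, h'.x2]
  · rw [h.x4, h'.x4]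

theorem isW1V_toV {γ : MulAut (Q1 φ)} (h : IsW1 γ) : IsW1V (toV φ γ) := by
  intro v
  rw [toV_apply]
  exact Prod.ext (h.x6 _) (Prod.ext (h.x5 _) (Prod.ext (h.x3 _) (h.x2 _)))

theorem w1V_unique {g g' : Equiv.Perm (V1 F K)} (h : IsW1V g) (h' : IsW1V g') : g = g' := by
  ext1 v
  rw [h v, h' v]

/-! ### `Γ` -/

section Par

variable {p : ℕ} {Γ : Subgroup (MulAut (Q1 φ))} {D : Subgroup (MulAut (Sy φ))}

theorem ker_le [CharP F p] (P : Par p (Q1 φ) Γ D) {γ : MulAut (Q1 φ)} (hγ : γ ∈ Γ) (h : toV φ γ = 1) :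
    γ ∈ autInducedBy ⊤ (Q1 φ) := by
  obtain ⟨g, hg, hg'⟩ := P.syl (Γ ⊓ (toV φ).ker) inf_le_left (ker_pGroup.to_le inf_le_right)
  have := hg' (g⁻¹ * γ * g) ⟨mul_mem (mul_mem (Γ.inv_mem hg) hγ) hg, by
    show toV φ (g⁻¹ * γ * g) = 1
    rw [map_mul, map_mul, h, mul_one, ← map_mul, inv_mul_cancel, map_one]⟩
  have e : g * (g⁻¹ * γ * g) * g⁻¹ = γ := by group
  rwa [e] at this

theorem mem_aut_of_act [CharP F p] (P : Par p (Q1 φ) Γ D) {γ : MulAut (Q1 φ)} (hγ : γ ∈ Γ) {b : K}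
    (h : IsActV φ (toV φ γ) b) : γ ∈ autInducedBy ⊤ (Q1 φ) := by
  have h1 : toV φ γ = toV φ (MulAut.conjNormal (u1 φ b)) := act_unique h (isActV_conj (u1 φ b))
  have h2 := ker_le P (mul_mem hγ (Γ.inv_mem (P.indu (conj_mem (u1 φ b))))) (by
    rw [map_mul, map_inv, h1, mul_inv_cancel])
  have h3 := mul_mem h2 (conj_mem (u1 φ b))
  rwa [inv_mul_cancel_right] at h3

theorem act_of_mem_aut {γ : MulAut (Q1 φ)} (h : γ ∈ autInducedBy ⊤ (Q1 φ)) : ∃ b, IsActV φ (toV φ γ) b := by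
  rw [aut_eq] at h
  obtain ⟨x, rfl⟩ := h
  exact ⟨x.x1, isActV_conj x⟩

/-- the parameters of `D` -/
def Dc (D : Subgroup (MulAut (Sy φ))) : Set (K × F × (K ≃+* K) × (F ≃+* F)) :=
  {c | ∃ d ∈ D, IsTor d c.1 c.2.1 c.2.2.1 c.2.2.2}

theorem lpar (hG : StGrpD.{u}) {n : ℕ} (hyp : HypD φ p n) (P : Par p (Q1 φ) Γ D) :
    LPar φ p (Γ.map (toV φ)) (Dc D) := by
  have := hyp.char
  have hCF : CharP F p := (algebraMap F K).charP (algebraMap F K).injective p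
  have : Fact p.Prime := ⟨hyp.pp⟩
  obtain ⟨-, -, -, hTT, -, -⟩ := hG hyp
  refine ⟨?_, ?_, ?_, ?_, ?_, ?_, ?_, ?_, ?_, ?_⟩
  · rintro _ ⟨γ, -, rfl⟩ v w
    exact toV_add γ v w
  · intro a g hg
    exact ⟨_, P.indu (conj_mem (u1 φ a)), act_unique (isActV_conj (u1 φ a)) hg⟩
  · intro P0 hP0 hp0
    have h1 : IsPGroup p (P0.comap (toV φ)) := by
      have h2 : IsPGroup p ((toV φ).ker) := ker_pGroup
      exact hp0.comap_of_ker_isPGroup (toV φ) h2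
    obtain ⟨g, hg, hg'⟩ := P.syl (P0.comap (toV φ) ⊓ Γ) inf_le_right (h1.to_le inf_le_left)
    refine ⟨toV φ g, ⟨g, hg, rfl⟩, fun x hx => ?_⟩
    obtain ⟨γ, hγ, rfl⟩ := hP0 hx
    have h3 := act_of_mem_aut (hg' γ ⟨hx, hγ⟩)
    rwa [map_mul, map_mul, map_inv] at h3
  · have h1 := P.nn
    push Not at h1
    obtain ⟨γ, hγ, h2⟩ := h1
    unfold NormAut at h2
    push Not at h2
    obtain ⟨x, hx, hx'⟩ := h2
    obtain ⟨a, ha⟩ := act_of_mem_aut hx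
    refine ⟨toV φ γ, ⟨γ, hγ, rfl⟩, a, toV φ x, ha, ?_⟩
    rintro ⟨b, hb⟩
    rw [← map_inv, ← map_mul, ← map_mul] at hb
    exact hx' (mem_aut_of_act P (mul_mem (mul_mem hγ (P.indu hx)) (Γ.inv_mem hγ)) hb)
  · rintro _ ⟨γ, hγ, rfl⟩ a x hx hx1 ⟨b, hb⟩ a' x' hx'
    have e1 : x = toV φ (MulAut.conjNormal (u1 φ a)) := act_unique hx (isActV_conj (u1 φ a))
    have e2 : x' = toV φ (MulAut.conjNormal (u1 φ a')) := act_unique hx' (isActV_conj (u1 φ a'))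
    rw [e1, ← map_inv, ← map_mul, ← map_mul] at hb
    have h1 := mem_aut_of_act P (mul_mem (mul_mem hγ (P.indu (conj_mem (u1 φ a)))) (Γ.inv_mem hγ)) hb
    have h2 := P.ti γ hγ _ (conj_mem (u1 φ a)) (fun h => hx1 (by rw [e1]; exact toV_inn h)) h1
    have h3 := act_of_mem_aut (h2 _ (conj_mem (u1 φ a')))
    rw [map_mul, map_mul, map_inv] at h3
    rw [e2]
    exact h3
  · rintro _ ⟨γ, -, rfl⟩
    exact ⟨zet γ, toV_form γ⟩
  · rintro rfl _ ⟨γ, -, rfl⟩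
    exact ⟨zet γ, toV_quad (by exact_mod_cast CharP.cast_eq_zero F 2) γ⟩
  · rintro s t τ ρ ⟨d, hd, h⟩
    exact ⟨_, ⟨_, P.D_res d hd _ (isR_res d), rfl⟩, isTorV_res h⟩
  · refine ⟨D.map ((toV φ).comp (res φ)), ?_, fun g => ⟨?_, ?_⟩⟩
    · exact Nat.Coprime.coprime_dvd_left (Subgroup.card_map_dvd _ _) P.D_cop
    · rintro ⟨d, hd, rfl⟩
      obtain ⟨s, t, τ, ρ, h⟩ := hTT d (P.D_le hd)
      exact ⟨s, t, τ, ρ, ⟨d, hd, h⟩, isTorV_res h⟩
    · rintro ⟨s, t, τ, ρ, ⟨d, hd, h⟩, h'⟩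
      exact ⟨d, hd, tor_unique (isTorV_res h) h'⟩
  · rintro _ ⟨γ, hγ, rfl⟩ h
    obtain ⟨x, d, hd, h1⟩ := P.norm γ hγ (fun x hx => by
      obtain ⟨a, ha⟩ := act_of_mem_aut hx
      obtain ⟨b, hb⟩ := h a _ ha
      rw [← map_inv, ← map_mul, ← map_mul] at hb
      exact mem_aut_of_act P (mul_mem (mul_mem hγ (P.indu hx)) (Γ.inv_mem hγ)) hb)
    obtain ⟨s, t, τ, ρ, h2⟩ := hTT d (P.D_le hd)
    refine ⟨s, t, τ, ρ, ⟨d, hd, h2⟩, toV φ (MulAut.conjNormal x), toV φ (res φ d), ⟨x.x1, isActV_conj x⟩,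
      isTorV_res h2, ?_⟩
    rw [← map_mul]
    congr 1
    refine MulEquiv.ext fun e => Subtype.ext ?_
    rw [h1, MulAut.mul_apply, MulAut.conjNormal_apply]
    rfl

end Par

/-- **(L1A)** -/
theorem stL1a (hG : StGrpD.{u}) (hL : StLin1.{u}) : StL1a.{u} := by
  intro F K _ _ _ φ _ p n hyp Γ D P h3
  obtain ⟨-, -, hex, hTT, ⟨w1, hw1⟩, -⟩ := hG hyp
  obtain ⟨c1, c2, c3⟩ := hL hyp _ _ (lpar hG hyp P) (fun h => by
    obtain ⟨α, hα⟩ := hex (-1) 1 (RingEquiv.refl K) (RingEquiv.refl F) (neg_ne_zero.2 one_ne_zero) one_ne_zero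
      (fun _ => rfl)
    exact ⟨α, h3 h α hα, hα⟩)
  refine ⟨?_, ?_, ?_⟩
  · intro a α ha hα
    obtain ⟨d, hd, h⟩ := c1 a ha
    rwa [isTor_unique hα h]
  · intro l hl
    have h1 : toV φ l ∈ Γ.map (toV φ) := by
      have h2 : Lam1 φ ≤ (Γ.map (toV φ)).comap (toV φ) := by
        rw [Lam1, sup_le_iff, Subgroup.closure_le]
        refine ⟨fun x hx => ⟨x, P.indu hx, rfl⟩, fun x hx => c2 _ (isW1V_toV hx)⟩
      exact h2 hl
    obtain ⟨γ, hγ, h2⟩ := h1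
    exact ⟨γ, hγ, (toV_eq_iff γ l).1 h2⟩
  · intro γ hγ
    obtain ⟨l, hl, s, t, τ, ρ, ⟨d, hd, h1⟩, y, hy, h2⟩ := c3 (toV φ γ) ⟨γ, hγ, rfl⟩
    have h4 : l ∈ (Lam1 φ).map (toV φ) := by
      have h5 : Subgroup.closure {x : Equiv.Perm (V1 F K) | (∃ a, IsActV φ x a) ∨ IsW1V x} ≤
          (Lam1 φ).map (toV φ) := by
        rw [Subgroup.closure_le]
        rintro x (⟨a, hx⟩ | hx)
        · exact ⟨_, (le_sup_left : _ ≤ Lam1 φ) (conj_mem (u1 φ a)), act_unique (isActV_conj (u1 φ a)) hx⟩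
        · exact ⟨w1, (le_sup_right : _ ≤ Lam1 φ) (Subgroup.subset_closure hw1), w1V_unique (isW1V_toV hw1) hx⟩
      exact h5 hl
    obtain ⟨l', hl', rfl⟩ := h4
    refine ⟨l', hl', d, hd, res φ d, isR_res d, ?_⟩
    rw [← toV_eq_iff, h2, map_mul, tor_unique hy (isTorV_res h1)]

end Cfsg.Agent.H932.D4
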